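import Cfsg.Agent.Mrg.Omega.NOThreeL.RWide.TAct
import Cfsg.Agent.Mrg.Omega.NOne.LemmaT


/-!
# `parT`, frame facts [A3] (helper971 #27366)

`T` a 2-group, `F i` (`Ω₁Z(T) = ∏ F i`), `V i` the blocks, `Y_j = C_G(F_l : l ≠ j)`, `X_ij = C_G(F_l : l ≠ i, j)`.

* `Typ0 T F V` : `TypT` without `par`, `non`;  `Typ0.of`, `Tf.typ0` : from the action of `N_G(T)` on the index set;
* `Typ0.eab_X`, `Typ0.X_le_O`, `Typ0.X_le_T`, `Typ0.V_le_X`, `Typ0.V_le_X'`, `Typ0.zc_le_X`, `XF_norm_X` : `E_ij = ⟨Ω₁Z(T)^(X_ij)⟩`;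
* `Typ0.syl_of`, `Typ0.syl_of'`, `Typ0.char2_of` : `P` with `T ≤ P ≤ Y_j`;
* `Typ0.zl_le_X`, `Typ0.inf_cent_zl` : `⟨Ω₁Z(T)^P⟩ ≤ E_ij`, `C_T(⟨Ω₁Z(T)^P⟩) = O₂(P)`;
* `Typ0.burn`, `Typ0.burn_F` : Burnside in `Y_j` over `T`.
-/

set_option autoImplicit false
set_option linter.unusedSectionVars false

namespace Cfsg.Agent.Omega.NOThreeL.RWide.ParT.Loc

open Subgroup Cfsg Cfsg.Agent.ZN Cfsg.Agent.Omega.MinPar Cfsg.Agent.Omega.Frame Cfsg.Agent.Omega.FrameNOFF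
open Cfsg.Agent.ZN.ChoiceBase (cj cj_mono cj_inf cj_centralizer cj_eq_of_mem_normalizer mem_cj mem_normalizer_iff_cj
  cj_cj_inv cj_inv_cj cj_cj isPGroup_cj card_cj mem_zc)
open Cfsg.Agent.ZN.ChoiceSit (Syl syl_conj exists_syl)
open Cfsg.Agent.Omega.NoFF.Basic (comm_symm comm_mono)
open Cfsg.Agent.MinSimple.MinParabolic (IsMinPar)
open Cfsg.Agent.Omega.EDel.ThmU (XF XF_le sylow_of_two)
open Cfsg.Agent.Omega.NO3S.EThree Cfsg.Agent.Omega.NO3S.EThree.ExactA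

universe u v

/-- **`TypT` without `par`, `non`.** -/
structure Typ0 {G : Type u} [Group G] {ι : Type v} (T : Subgroup G) (F V : ι → Subgroup G) : Prop where
  two : IsPGroup 2 T
  three : ∀ i j : ι, ∃ l, l ≠ i ∧ l ≠ j
  ne : ∀ i, F i ≠ ⊥
  le : ∀ i, F i ≤ zc T
  sup : zc T ≤ ⨆ i, F i
  FV : ∀ i, F i ≤ V i
  VX : ∀ i, V i ≤ XS (F i) (YY F i)
  cV : ∀ i, V i ⊓ zc T ≤ F i
  dis : ∀ i j, i ≠ j → V i ⊓ V j = ⊥
  syl : ∀ j, ¬ 2 ∣ T.relIndex (YY F j)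
  oT : ∀ i j, i ≠ j → o2 (XF F i j) ≤ T
  nrm : ∀ j, ∀ n ∈ normalizer (T : Set G), n ∈ YY F j →
    n ∈ normalizer (F j : Set G) ∧ ∀ i, n ∈ normalizer (V i : Set G)

/-- **`Typ0` from the action of `N_G(T)` on the index set.** -/
theorem Typ0.of {G : Type u} [Group G] [Finite G] {ι : Type v} {T : Subgroup G} {F V : ι → Subgroup G}
    (two : IsPGroup 2 T) (three : ∀ i j : ι, ∃ l, l ≠ i ∧ l ≠ j) (ne : ∀ i, F i ≠ ⊥) (le : ∀ i, F i ≤ zc T)
    (sup : zc T ≤ ⨆ i, F i) (FV : ∀ i, F i ≤ V i) (VX : ∀ i, V i ≤ XS (F i) (YY F i)) (cV : ∀ i, V i ⊓ zc T ≤ F i)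
    (dis : ∀ i j, i ≠ j → V i ⊓ V j = ⊥) (oT : ∀ i j, i ≠ j → o2 (XF F i j) ≤ T)
    (NT : ∀ n ∈ normalizer (T : Set G), ∃ σ : Equiv.Perm ι, ∀ i, cj n (F i) = F (σ i) ∧ cj n (V i) = V (σ i))
    (ker : ∀ n ∈ normalizer (T : Set G), (∃ k : ℕ, n ^ 2 ^ k = 1) → (∀ i, cj n (F i) = F i) → n ∈ T) :
    Typ0 T F V := by
  have inj : ∀ i j, F i = F j → i = j := by
    intro i j h
    by_contra hij
    apply ne i
    rw [eq_bot_iff, ← dis i j hij]
    exact le_inf (FV i) (h.le.trans (FV j))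
  have key : ∀ j, ∀ n ∈ normalizer (T : Set G), n ∈ YY F j → ∀ i, cj n (F i) = F i ∧ cj n (V i) = V i := by
    intro j n hn hj
    obtain ⟨σ, hσ⟩ := NT n hn
    have h1 : ∀ l, l ≠ j → σ l = l := by
      intro l hl
      apply inj
      rw [← (hσ l).1]
      exact cj_eq_of_mem_normalizer (centralizer_le_normalizer _ (YY_le_cent hl hj))
    have h2 : σ j = j := by
      by_contra hne
      exact hne (σ.injective (h1 _ hne))
    intro i
    have h3 : σ i = i := by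
      by_cases hi : i = j
      · rw [hi]; exact h2
      · exact h1 i hi
    have h4 := hσ i
    rw [h3] at h4
    exact h4
  have hTc : ∀ i, T ≤ centralizer (F i : Set G) := fun i => by
    intro t ht
    rw [mem_centralizer_iff]
    intro x hx
    exact ((MinSimple.VModule.mem_zc.1 (le i hx)).2.1 t ht).symm
  refine ⟨two, three, ne, le, sup, FV, VX, cV, dis, fun j => ?_, oT, fun j n hn hj => ?_⟩
  · exact sylow_of_two two (le_YY fun l _ => hTc l) fun g hg h2 => ker g hg.2 h2 fun i => (key j g hg.2 hg.1 i).1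
  · exact ⟨mem_normalizer_iff_cj.2 (key j n hn hj j).1, fun i => mem_normalizer_iff_cj.2 (key j n hn hj i).2⟩

/-- `XF F i j` normalises `E_ij` -/
theorem XF_norm_X {G : Type u} [Group G] {ι : Type v} (T : Subgroup G) (F : ι → Subgroup G) (i j : ι) :
    XF F i j ≤ normalizer (XS (zc T) (XF F i j) : Set G) := le_normalizer_XS _ _

namespace Typ0

variable {G : Type u} [Group G] {ι : Type v} {T : Subgroup G} {F V : ι → Subgroup G}

theorem YY_le_XF (F : ι → Subgroup G) (i j : ι) : YY F i ≤ XF F i j :=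
  centralizer_le fun _ ⟨n, h1, _, h3⟩ => ⟨n, h1, h3⟩

theorem YY_le_XF' (F : ι → Subgroup G) (i j : ι) : YY F j ≤ XF F i j := by
  rw [EDel.ThmU.XF_comm]; exact YY_le_XF F j i

variable (h : Typ0 T F V)
include h

theorem T_le_CZ : T ≤ CZ T := by
  intro t ht
  rw [mem_centralizer_iff]
  intro x hx
  exact ((MinSimple.VModule.mem_zc.1 hx).2.1 t ht).symm

theorem CZ_le (j : ι) : CZ T ≤ YY F j := le_YY fun l _ => centralizer_le (h.le l)

theorem T_le (j : ι) : T ≤ YY F j := h.T_le_CZ.trans (h.CZ_le j)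

theorem TC (i : ι) : T ≤ centralizer (F i : Set G) := h.T_le_CZ.trans (centralizer_le (h.le i))

/-- centralising all `F i` -/
theorem le_CZ_of {K : Subgroup G} (hK : ∀ l, K ≤ centralizer (F l : Set G)) : K ≤ CZ T :=
  comm_symm (h.sup.trans (iSup_le fun l => comm_symm (hK l)))

/-- centralising `Ω₁Z(T)` -/
theorem le_CZ_of_YY {K : Subgroup G} {j : ι} (hK : K ≤ YY F j) (hF : K ≤ centralizer (F j : Set G)) : K ≤ CZ T := by
  refine h.le_CZ_of fun l => ?_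
  by_cases hl : l = j
  · rw [hl]; exact hF
  · exact hK.trans (YY_le_cent hl)

theorem TV (i : ι) : T ≤ normalizer (V i : Set G) := fun _ ht => (h.nrm i _ (le_normalizer ht) (h.T_le i ht)).2 i

theorem CZ_le_XF (i j : ι) : CZ T ≤ XF F i j := by
  intro x hx
  rw [XF, mem_centralizer_iff]
  rintro y ⟨n, -, -, hy⟩
  exact mem_centralizer_iff.1 hx y (h.le n hy)

theorem exists_ne (j : ι) : ∃ i, i ≠ j := by
  obtain ⟨l, hl, -⟩ := h.three j j
  exact ⟨l, hl⟩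

variable [Finite G]

/-- `X_ij` has characteristic 2 -/
theorem char2_XF (hc : IsCharacteristicTwoType G) (i j : ι) :
    XF F i j ⊓ centralizer (o2 (XF F i j) : Set G) ≤ o2 (XF F i j) := by
  have e : XF F i j = centralizer ((closure {x | ∃ n, n ≠ i ∧ n ≠ j ∧ x ∈ F n} : Subgroup G) : Set G) :=
    (centralizer_closure _).symm
  have hle : closure {x | ∃ n, n ≠ i ∧ n ≠ j ∧ x ∈ F n} ≤ T := by
    rw [closure_le]
    rintro _ ⟨n, -, -, hx⟩
    exact ZN.zc_le _ (h.le n hx)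
  rw [e]
  refine Cfsg.Agent.Omega.NOne.LemmaT.char2_centralizer hc (h.two.to_le hle) ?_
  obtain ⟨l, hl1, hl2⟩ := h.three i j
  intro e1
  apply h.ne l
  rw [eq_bot_iff, ← e1]
  exact fun x hx => subset_closure ⟨l, hl1, hl2, hx⟩

/-- `Y_j` has characteristic 2 -/
theorem char2_YY (hc : IsCharacteristicTwoType G) (j : ι) :
    YY F j ⊓ centralizer (o2 (YY F j) : Set G) ≤ o2 (YY F j) := by
  have e : YY F j = centralizer ((closure {x | ∃ n, n ≠ j ∧ x ∈ F n} : Subgroup G) : Set G) :=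
    (centralizer_closure _).symm
  have hle : closure {x | ∃ n, n ≠ j ∧ x ∈ F n} ≤ T := by
    rw [closure_le]
    rintro _ ⟨n, -, hx⟩
    exact ZN.zc_le _ (h.le n hx)
  rw [e]
  refine Cfsg.Agent.Omega.NOne.LemmaT.char2_centralizer hc (h.two.to_le hle) ?_
  obtain ⟨l, hl1⟩ := h.exists_ne j
  intro e1
  apply h.ne l
  rw [eq_bot_iff, ← e1]
  exact fun x hx => subset_closure ⟨l, hl1, hx⟩

theorem zc_le_XF (i j : ι) : zc T ≤ XF F i j := by
  have h1 : zc T ≤ CZ T := (ZN.zc_le _).trans h.T_le_CZ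
  exact h1.trans (h.CZ_le_XF i j)

/-- `⟨Ω₁Z(T)^(X_ij)⟩ ≤ Ω₁Z(O₂(X_ij))` -/
theorem XS_le_zc (hc : IsCharacteristicTwoType G) {i j : ι} (hij : i ≠ j) :
    XS (zc T) (XF F i j) ≤ zc (o2 (XF F i j)) := by
  have h1 : zc T ≤ centralizer (o2 (XF F i j) : Set G) := comm_symm ((h.oT i j hij).trans h.T_le_CZ)
  have h2 : zc T ≤ zc (o2 (XF F i j)) := by
    intro x hx
    have h3 : x ∈ o2 (XF F i j) := h.char2_XF hc i j ⟨h.zc_le_XF i j hx, h1 hx⟩
    exact MinSimple.VModule.mem_zc.2 ⟨h3, fun y hy => mem_centralizer_iff.1 (h1 hx) y hy,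
      MinSimple.VModule.zc_sq _ x hx⟩
  exact XS_le_of h2 ((MinSimple.VModule.le_normalizer_o2 _).trans (MinSimple.VModule.normalizer_le_normalizer_zc _))

/-- **(1)** `E_ij` is elementary abelian -/
theorem eab_X (hc : IsCharacteristicTwoType G) {i j : ι} (hij : i ≠ j) :
    IsElementaryAbelian 2 (XS (zc T) (XF F i j)) := by
  have h1 : IsElementaryAbelian 2 (zc (o2 (XF F i j))) := by
    rw [eab_iff]
    refine ⟨fun x hx => ?_, fun x hx => MinSimple.VModule.zc_sq _ x hx⟩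
    rw [mem_centralizer_iff]
    intro y hy
    exact (MinSimple.VModule.mem_zc.1 hx).2.1 y (ZN.zc_le _ hy)
  exact eab_mono h1 (h.XS_le_zc hc hij)

/-- `O₂(X_ij) ≤ O₂(D)` -/
theorem o2_XF_le {i j : ι} (hij : i ≠ j) : o2 (XF F i j) ≤ o2 (CZ T) := by
  refine MinSimple.VModule.le_o2 ((h.oT i j hij).trans h.T_le_CZ) (MinSimple.VModule.o2_isPGroup _) ?_
  exact (h.CZ_le_XF i j).trans (MinSimple.VModule.le_normalizer_o2 _)

/-- **(1)** `E_ij ≤ O₂(C_G(Ω₁Z(T)))` -/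
theorem X_le_O (hc : IsCharacteristicTwoType G) {i j : ι} (hij : i ≠ j) :
    XS (zc T) (XF F i j) ≤ o2 (CZ T) :=
  (h.XS_le_zc hc hij).trans ((ZN.zc_le _).trans (h.o2_XF_le hij))

/-- **(1)** `E_ij ≤ T` -/
theorem X_le_T (hc : IsCharacteristicTwoType G) {i j : ι} (hij : i ≠ j) : XS (zc T) (XF F i j) ≤ T :=
  (h.XS_le_zc hc hij).trans ((ZN.zc_le _).trans (h.oT i j hij))

omit [Finite G] in
/-- **(1)** `Ω₁Z(T) ≤ E_ij` -/
theorem zc_le_X (i j : ι) : zc T ≤ XS (zc T) (XF F i j) := le_XS _ _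

omit [Finite G] in
/-- **(1)** `V_j ≤ E_ij` -/
theorem V_le_X (i j : ι) : V j ≤ XS (zc T) (XF F i j) :=
  (h.VX j).trans (XS_le fun _ hr _ ha => conj_mem_XS (YY_le_XF' F i j hr) (h.le j ha))

omit [Finite G] in
/-- **(1)** `V_i ≤ E_ij` -/
theorem V_le_X' (i j : ι) : V i ≤ XS (zc T) (XF F i j) :=
  (h.VX i).trans (XS_le fun _ hr _ ha => conj_mem_XS (YY_le_XF F i j hr) (h.le i ha))

theorem V_le_O (hc : IsCharacteristicTwoType G) (j : ι) : V j ≤ o2 (CZ T) := by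
  obtain ⟨i, hi⟩ := h.exists_ne j
  exact (h.V_le_X i j).trans (h.X_le_O hc hi)

theorem o2_CZ_le (j : ι) : o2 (CZ T) ≤ T := by
  refine MinSimple.VModule.o2_le_of_sylow h.two fun h1 => h.syl j ?_
  rw [← relIndex_mul_relIndex T (CZ T) (YY F j) h.T_le_CZ (h.CZ_le j)]
  exact h1.mul_right _

/-! ### (2) `T ≤ P ≤ Y_j` -/

omit [Finite G] in
/-- **(2)** `T` is Sylow in `P` -/
theorem syl_of {P : Subgroup G} {j : ι} (hTP : T ≤ P) (hP : P ≤ YY F j) : ¬ 2 ∣ T.relIndex P := fun h1 => h.syl j (by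
  rw [← relIndex_mul_relIndex T P (YY F j) hTP hP]
  exact h1.mul_right _)

/-- **(2)** `T` is Sylow in `P` -/
theorem syl_of' {P : Subgroup G} {j : ι} (hTP : T ≤ P) (hP : P ≤ YY F j) : Syl T P := by
  refine ⟨hTP, h.two, fun Q hQP hQ hTQ => ?_⟩
  by_contra hne
  have : Fact (Nat.Prime 2) := ⟨Nat.prime_two⟩
  apply h.syl_of hTP hP
  have hlt : T < Q := lt_of_le_of_ne hTQ fun e => hne e.symm
  have h1 : T.relIndex Q ≠ 1 := fun e => hlt.not_ge (relIndex_eq_one.1 e)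
  have h2 : 2 ∣ T.relIndex Q := by
    obtain ⟨n, hn⟩ := (IsPGroup.iff_card.1 hQ)
    have h3 : T.relIndex Q ∣ 2 ^ n := by
      rw [← hn]
      exact relIndex_dvd_card T Q
    obtain ⟨m, -, hm⟩ := (Nat.dvd_prime_pow Nat.prime_two).1 h3
    rw [hm]
    refine dvd_pow_self 2 fun e => h1 ?_
    rw [hm, e, pow_zero]
  rw [← relIndex_mul_relIndex T Q P hTQ hQP]
  exact h2.mul_right _

/-- **(2)** `O₂(Y_j) ≤ O₂(P)` -/
theorem o2_YY_le {P : Subgroup G} {j : ι} (hTP : T ≤ P) (hP : P ≤ YY F j) : o2 (YY F j) ≤ o2 P := by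
  have h1 : o2 (YY F j) ≤ T := MinSimple.VModule.o2_le_of_sylow h.two (h.syl j)
  refine MinSimple.VModule.le_o2 (h1.trans hTP) (MinSimple.VModule.o2_isPGroup _) ?_
  exact hP.trans (MinSimple.VModule.le_normalizer_o2 _)

/-- **(2)** `P` has characteristic 2 -/
theorem char2_of (hc : IsCharacteristicTwoType G) {P : Subgroup G} {j : ι} (hTP : T ≤ P) (hP : P ≤ YY F j) :
    P ⊓ centralizer (o2 P : Set G) ≤ o2 P := by
  have h1 := h.o2_YY_le hTP hP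
  exact (le_inf (inf_le_left.trans hP) (inf_le_right.trans (centralizer_le h1))).trans ((h.char2_YY hc j).trans h1)

theorem o2_le_T {P : Subgroup G} {j : ι} (hTP : T ≤ P) (hP : P ≤ YY F j) : o2 P ≤ T :=
  MinSimple.VModule.o2_le_of_sylow h.two (h.syl_of hTP hP)

/-! ### (3) `⟨Ω₁Z(T)^P⟩` -/

omit [Finite G] in
/-- **(3)** `⟨Ω₁Z(T)^P⟩ ≤ E_ij` -/
theorem zl_le_X {P : Subgroup G} (i : ι) {j : ι} (hP : P ≤ YY F j) : zl T P ≤ XS (zc T) (XF F i j) := by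
  refine iSup_le fun p => ?_
  rintro _ ⟨z, hz, rfl⟩
  exact conj_mem_XS (YY_le_XF' F i j (hP p.2)) hz

/-- **(3)** `C_T(⟨Ω₁Z(T)^P⟩) = O₂(P)` -/
theorem inf_cent_zl (hc : IsCharacteristicTwoType G) {P : Subgroup G} {j : ι} (hP : IsMinPar T P) (hPY : P ≤ YY F j)
    (hmv : ¬ P ≤ centralizer (F j : Set G)) : T ⊓ centralizer (zl T P : Set G) = o2 P := by
  have hfact : Fact (Nat.Prime 2) := ⟨Nat.prime_two⟩
  have hSyl := h.syl_of hP.le hPY
  apply le_antisymm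
  · rcases hP.sup_eq_or_inf_le (p := 2) h.two hSyl (N := P ⊓ centralizer (zl T P : Set G)) inf_le_left
      (MinSimple.VModule.le_normalizer_centralizer_zl T P) with h1 | h1
    · exfalso
      apply hmv
      have h2 : P ≤ centralizer (zc T : Set G) := by
        rw [← h1]
        exact sup_le (inf_le_right.trans (centralizer_le (MinSimple.VModule.zc_le_zl T P)))
          (MinSimple.VModule.le_centralizer_zc T)
      exact h2.trans (centralizer_le (h.le j))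
    · refine le_trans ?_ h1
      exact fun x hx => ⟨hx.1, hP.le hx.1, hx.2⟩
  · exact le_inf (MinSimple.VModule.o2_le_of_sylow h.two hSyl)
      (MinSimple.VModule.o2_le_centralizer_zl hP.le h.two hSyl (h.char2_of hc hP.le hPY))

/-! ### (4) Burnside -/

/-- **(4)** Burnside in `Y_j` over `T` : two elements of `C_(Y_j)(T)` conjugate in `Y_j` are conjugate in `N_(Y_j)(T)` -/
theorem burn {j : ι} {x y g : G} (hx : x ∈ centralizer (T : Set G)) (hy : y ∈ centralizer (T : Set G))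
    (hg : g ∈ YY F j) (e : g * x * g⁻¹ = y) :
    ∃ n ∈ YY F j, n ∈ normalizer (T : Set G) ∧ n * x * n⁻¹ = y := by
  set K := YY F j ⊓ centralizer ({y} : Set G) with hK
  have hTK : T ≤ K := le_inf (h.T_le j) fun t ht => mem_centralizer_iff.2 fun z hz => by
    rw [Set.mem_singleton_iff.1 hz]; exact (mem_centralizer_iff.1 hy t ht).symm
  have hgT : cj g T ≤ K := by
    refine le_inf ?_ ?_
    · rintro _ ⟨t, ht, rfl⟩
      exact mul_mem (mul_mem hg (h.T_le j ht)) (inv_mem hg)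
    · rintro _ ⟨t, ht, rfl⟩
      refine mem_centralizer_iff.2 fun z hz => ?_
      rw [Set.mem_singleton_iff.1 hz, ← e]
      have h1 : t * x = x * t := mem_centralizer_iff.1 hx t ht
      change g * x * g⁻¹ * (g * t * g⁻¹) = g * t * g⁻¹ * (g * x * g⁻¹)
      calc g * x * g⁻¹ * (g * t * g⁻¹) = g * (x * t) * g⁻¹ := by group
        _ = g * (t * x) * g⁻¹ := by rw [h1]
        _ = g * t * g⁻¹ * (g * x * g⁻¹) := by group
  have hTs : Syl T K := h.syl_of' hTK inf_le_left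
  obtain ⟨Q, hQ, hle⟩ := exists_syl (isPGroup_cj g h.two) hgT
  obtain ⟨k, hk, rfl⟩ := syl_conj hTs hQ
  refine ⟨k⁻¹ * g, mul_mem (inv_mem hk.1) hg, ?_, ?_⟩
  · have h3 : cj (k⁻¹ * g) T ≤ T := by
      have := cj_mono k⁻¹ hle
      rwa [cj_inv_cj, cj_cj] at this
    exact mem_normalizer_iff_cj.2 (Subgroup.eq_of_le_of_card_ge h3 (by rw [card_cj]))
  · have h4 : y * k = k * y := mem_centralizer_iff.1 hk.2 y rfl
    calc k⁻¹ * g * x * (k⁻¹ * g)⁻¹ = k⁻¹ * (g * x * g⁻¹) * k := by group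
      _ = k⁻¹ * (y * k) := by rw [e, mul_assoc]
      _ = y := by rw [h4]; group

/-- **(4)** `f ∈ F_j`, `f^g ∈ Ω₁Z(T)` with `g ∈ Y_j` : `f^g ∈ F_j` -/
theorem burn_F {j : ι} {f y g : G} (hf : f ∈ F j) (hy : y ∈ zc T) (hg : g ∈ YY F j) (e : g * f * g⁻¹ = y) : y ∈ F j := by
  have hc : ∀ z ∈ zc T, z ∈ centralizer (T : Set G) := fun z hz => mem_centralizer_iff.2 fun t ht =>
    (MinSimple.VModule.mem_zc.1 hz).2.1 t ht
  obtain ⟨n, hn, hnT, h1⟩ := h.burn (hc f (h.le j hf)) (hc y hy) hg e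
  rw [← h1]
  exact (mem_normalizer_iff.1 (h.nrm j n hnT hn).1 f).1 hf

/-- **(4)** `z ∈ F_j`, `w ∈ ∏_(c ≠ j) F_c`, `z^g = z w` with `g ∈ Y_j` : `z w ∈ F_j` -/
theorem burn_mul {j : ι} {z w g : G} (hz : z ∈ F j) (hw : w ∈ ⨆ c : {c // c ≠ j}, F c) (hg : g ∈ YY F j)
    (e : g * z * g⁻¹ = z * w) : z * w ∈ F j :=
  h.burn_F hz (mul_mem (h.le j hz) ((iSup_le fun c : {c // c ≠ j} => h.le c : _) hw)) hg e

end Typ0

end Cfsg.Agent.Omega.NOThreeL.RWide.ParT.Loc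

namespace Cfsg.Agent.Omega.NOThreeL.RWide.TAct.Tf

open Subgroup Cfsg
open Cfsg.Agent.ZN (zc o2)
open Cfsg.Agent.Omega.NOThreeL.RWide.ParT.Loc (Typ0)
open Cfsg.Agent.Omega.NoFF.Basic (comm_symm)

universe u v

variable {G : Type u} [Group G] {ι : Type v}
variable [Finite G] {S : Sylow 2 G} {V : Subgroup G} {N l : ι → Subgroup G} (h : Tf S V N l)
include h

/-- **The plug `Tf ⟹ Typ0`.** -/
theorem typ0 [Finite ι] [Nonempty ι] (three : ∀ i j : ι, ∃ k, k ≠ i ∧ k ≠ j) {E : ι → Subgroup G}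
    (EN : ∀ b, E b ≤ normalizer (N b : Set G)) (EC : ∀ b c, b ≠ c → E b ≤ centralizer (N c : Set G))
    (irr : ∀ b, ∀ A : Subgroup G, A ≤ N b → A ≠ ⊥ → N b ≤ XS A (E b))
    (ord : ∀ b, ∃ ρ ∈ E b, ∀ k : ℕ, ∃ v ∈ N b, ρ ^ 2 ^ k * v ≠ v * ρ ^ 2 ^ k) :
    Typ0 (TT (S : Subgroup G) N) (FF (S : Subgroup G) N l) N := by
  have hTF : ∀ i, TT (S : Subgroup G) N ≤ centralizer (FF (S : Subgroup G) N l i : Set G) := fun i =>
    comm_symm inf_le_right
  exact Typ0.of h.T2 three h.ne h.F_le h.zcT h.F_le_N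
    (fun i => TBits.VX_of h.F_le_N EC i (irr i _ (h.F_le_N i) (h.ne i)))
    (fun i => TBits.cV_of h.zcT h.F_le_N h.comN h.ind i) (fun i j => TBits.dis_of h.ind i j)
    (fun i j _ => TBits.oT_of h.T2 hTF h.F_le_N EN EC ord h.NT h.ker i j) h.NT h.ker

end Cfsg.Agent.Omega.NOThreeL.RWide.TAct.Tf
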