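import Cfsg.Agent.Mrg.Omega.NOThreeL.RWide.TAct
import Cfsg.Agent.Mrg.Omega.EDel.Bx.ZJBase

section


/-!
# THEOREM PAR_T (helper971 #26838), step (6): the end of case (alpha)

Over `Tf S V N l`; `T = TT S N`, `F b = C_(l b)(T)`, `D = C_G(Ω₁Z(T))`, `O = O₂(D)`, `X_j = YY F j`.

* `Tf.syl_YY`, `Tf.fix_of` : `T` is Sylow in `X_j`; `N_(X_j)(T)` fixes all blocks;
* `Tf.mem_all_of` : `P ≤ X_j`, `P ≤ N_G(B)` normalises all blocks;
* `Tf.J_le` : `N_G(J(O)) ≤ N_G(R)`;
* `Tf.norm_of_R` : `P ∈ 𝒫(T)`, `P ≤ X_j ∩ N_G(R)` moves `F j`: `P` normalises all blocks;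
* **`Tf.end_alpha`** : `P ∈ 𝒫(T)`, `P ≤ X_j ∩ N_G(l j)` moves `F j`: `P` normalises all blocks.
-/

set_option autoImplicit false
set_option linter.unusedSectionVars false

namespace Cfsg.Agent.Omega.NOThreeL.RWide.TAct

open Subgroup Cfsg Cfsg.Agent.Omega.MinPar
open Cfsg.Agent.ZN (zc o2 jj)
open Cfsg.Agent.ZN.ChoiceBase (cj cj_mono cj_inf cj_centralizer cj_eq_of_mem_normalizer mem_cj mem_normalizer_iff_cj
  cj_cj_inv cj_inv_cj cj_cj cj_one mem_zc isPGroup_cj card_cj AA jj_eq jj_le jj_eq_of_jj_le jj_cj normalizer_le_of_cj)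
open Cfsg.Agent.MinSimple.MinParabolic (IsMinPar le_of_forall)
open Cfsg.Agent.MinSimple.VModule (zc_le normalizer_le_normalizer_zc le_centralizer_zc le_normalizer_o2 o2_isPGroup
  le_o2 o2_le o2_le_of_sylow)
open Cfsg.Agent.Omega.NoFF.Basic (comm_symm)
open Cfsg.Agent.Omega.EDel.ThmU (sylow_of_two)

universe u v

variable {G : Type u} [Group G] {ι : Type v}

/-- `O₂(C_G(Ω₁Z(T)))` -/
abbrev OT [Finite G] (T : Subgroup G) : Subgroup G := o2 (centralizer (zc T : Set G))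

namespace Tf

variable [Finite G] [Finite ι] [Nonempty ι] {S : Sylow 2 G} {V : Subgroup G} {N l : ι → Subgroup G} (h : Tf S V N l)
include h

theorem hTF (i : ι) : TT (S : Subgroup G) N ≤ centralizer (FF (S : Subgroup G) N l i : Set G) :=
  comm_symm inf_le_right

theorem T_le_YY (j : ι) : TT (S : Subgroup G) N ≤ YY (FF (S : Subgroup G) N l) j := le_YY fun i _ => h.hTF i

/-- a permutation of the blocks by an element of `X_j` is trivial -/
theorem perm_eq {j : ι} {x : G} (hx : x ∈ YY (FF (S : Subgroup G) N l) j) {σ : Equiv.Perm ι}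
    (hσ : ∀ b, cj x (N b) = N (σ b)) (b : ι) : σ b = b := by
  have h1 : ∀ b, b ≠ j → σ b = b := by
    intro b hb
    by_contra hne
    apply h.ne b
    rw [eq_bot_iff, ← TBits.dis_of h.ind b (σ b) (Ne.symm hne)]
    refine le_inf (h.F_le_N b) ?_
    have h2 := cj_mono x (h.F_le_N b)
    rwa [cj_eq_of_mem_normalizer (centralizer_le_normalizer _ (YY_le_cent hb hx)), hσ b] at h2
  by_cases hb : b = j
  · subst hb
    by_contra hne
    exact hne (σ.injective (h1 _ hne))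
  · exact h1 b hb

/-- `N_(X_j)(T)` fixes all the lines and blocks -/
theorem fix_of {j : ι} {x : G} (hx : x ∈ YY (FF (S : Subgroup G) N l) j)
    (hxT : x ∈ normalizer (TT (S : Subgroup G) N : Set G)) (b : ι) :
    cj x (FF (S : Subgroup G) N l b) = FF (S : Subgroup G) N l b ∧ cj x (N b) = N b ∧ cj x (l b) = l b := by
  obtain ⟨σ, hσ⟩ := h.NT' x hxT
  have h1 := h.perm_eq hx (fun b => (hσ b).2.1) b
  have h2 := hσ b
  rwa [h1] at h2

/-- `T` is Sylow in `X_j` -/
theorem syl_YY (j : ι) : ¬ 2 ∣ (TT (S : Subgroup G) N).relIndex (YY (FF (S : Subgroup G) N l) j) :=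
  sylow_of_two h.T2 (h.T_le_YY j) fun g hg h2 => h.ker g hg.2 h2 fun i => (h.fix_of hg.1 hg.2 i).1

theorem syl_sub {j : ι} {P : Subgroup G} (hTP : TT (S : Subgroup G) N ≤ P)
    (hP : P ≤ YY (FF (S : Subgroup G) N l) j) : ¬ 2 ∣ (TT (S : Subgroup G) N).relIndex P := fun h1 => by
  apply h.syl_YY j
  rw [← relIndex_mul_relIndex _ P _ hTP hP]
  exact h1.mul_right _

/-- a subgroup of `X_j ∩ N_G(B)` normalises all blocks -/
theorem mem_all_of {j : ι} {P : Subgroup G} (hP : P ≤ YY (FF (S : Subgroup G) N l) j)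
    (hPB : P ≤ normalizer (BB (S : Subgroup G) l : Set G)) (b : ι) :
    P ≤ normalizer (N b : Set G) ∧ P ≤ normalizer (l b : Set G) := by
  have key : ∀ p ∈ P, cj p (l b) = l b ∧ cj p (N b) = N b := by
    intro p hp
    obtain ⟨σ, hσ⟩ := h.exists_perm (hPB hp) (h.B_le (hPB hp))
    have h1 := h.perm_eq (hP hp) (fun b => (hσ b).2) b
    have h2 := hσ b
    rwa [h1] at h2
  exact ⟨fun p hp => mem_normalizer_iff_cj.2 (key p hp).2, fun p hp => mem_normalizer_iff_cj.2 (key p hp).1⟩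

/-- `P ∈ 𝒫(T)` in `X_j ∩ N_G(R)` which moves `F j` normalises `B` -/
theorem le_nB {j : ι} {P : Subgroup G} (hP : IsMinPar (TT (S : Subgroup G) N) P)
    (hPX : P ≤ YY (FF (S : Subgroup G) N l) j) (hPR : P ≤ normalizer ((⨆ b, l b : Subgroup G) : Set G))
    (hm : ¬ P ≤ centralizer (FF (S : Subgroup G) N l j : Set G)) :
    P ≤ normalizer (BB (S : Subgroup G) l : Set G) := by
  have hs := h.syl_sub hP.le hPX
  have hC : P ≤ normalizer ((centralizer ((⨆ b, l b : Subgroup G) : Set G) : Subgroup G) : Set G) := by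
    intro g hg
    rw [mem_normalizer_iff_cj, cj_centralizer, cj_eq_of_mem_normalizer (hPR hg)]
  have hn : P ≤ normalizer ((P ⊓ centralizer ((⨆ b, l b : Subgroup G) : Set G) : Subgroup G) : Set G) := by
    intro g hg
    rw [mem_normalizer_iff_cj, cj_inf, cj_eq_of_mem_normalizer (Subgroup.le_normalizer hg),
      cj_eq_of_mem_normalizer (hC hg)]
  rcases hP.sup_eq_or_inf_le h.T2 hs inf_le_left hn with h1 | h1
  · exfalso
    apply hm
    rw [← h1]
    refine sup_le (inf_le_right.trans (centralizer_le ?_)) (h.hTF j)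
    exact (h.F_le_l j).trans (le_iSup l j)
  · have h2 : BB (S : Subgroup G) l = o2 P ⊓ centralizer ((⨆ b, l b : Subgroup G) : Set G) := by
      apply le_antisymm
      · refine le_inf (le_trans ?_ h1) inf_le_right
        exact le_inf h.BT (le_inf (h.BT.trans hP.le) inf_le_right)
      · refine le_inf ((inf_le_left.trans (o2_le_of_sylow h.T2 hs)).trans inf_le_left) inf_le_right
    rw [h2]
    intro g hg
    rw [mem_normalizer_iff_cj, cj_inf, cj_eq_of_mem_normalizer (le_normalizer_o2 _ hg),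
      cj_eq_of_mem_normalizer (hC hg)]

/-- `P ∈ 𝒫(T)` in `X_j ∩ N_G(R)` which moves `F j` normalises all blocks -/
theorem norm_of_R {j : ι} {P : Subgroup G} (hP : IsMinPar (TT (S : Subgroup G) N) P)
    (hPX : P ≤ YY (FF (S : Subgroup G) N l) j) (hPR : P ≤ normalizer ((⨆ b, l b : Subgroup G) : Set G))
    (hm : ¬ P ≤ centralizer (FF (S : Subgroup G) N l j : Set G)) (b : ι) : P ≤ normalizer (N b : Set G) :=
  (h.mem_all_of hPX (h.le_nB hP hPX hPR hm) b).1

omit [Finite ι] [Nonempty ι] in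
/-- `Ω₁Z(S) ≤ Ω₁Z(T)` -/
theorem Z_le_zcT : zc (S : Subgroup G) ≤ zc (TT (S : Subgroup G) N) := by
  intro x hx
  obtain ⟨hxS, hx2, hxc⟩ := mem_zc.1 hx
  exact mem_zc.2 ⟨h.BT (h.RB (h.ZR hx)), hx2, fun y hy => hxc y hy.1⟩

omit [Finite ι] in
/-- `J(O) ≠ 1` -/
theorem J_ne : jj (OT (TT (S : Subgroup G) N)) ≠ ⊥ := by
  refine Cfsg.Agent.Omega.ESym.CoreS.jj_ne_bot (o2_isPGroup _) fun e => ?_
  apply h.ne (Classical.arbitrary ι)
  rw [eq_bot_iff, ← e]
  refine (h.F_le _).trans (le_o2 (fun x hx => ?_) (h.T2.to_le (zc_le _)) ?_)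
  · rw [mem_centralizer_iff]
    exact fun y hy => ((mem_zc.1 hx).2.2 y (zc_le _ hy))
  · exact (centralizer_le_normalizer _)

omit [Finite ι] [Nonempty ι] in
/-- `S` normalises `J(O)` -/
theorem S_norm_J : (S : Subgroup G) ≤ normalizer (jj (OT (TT (S : Subgroup G) N)) : Set G) := by
  intro s hs
  have h1 : cj s (zc (TT (S : Subgroup G) N)) = zc (TT (S : Subgroup G) N) :=
    cj_eq_of_mem_normalizer (normalizer_le_normalizer_zc _ (h.ST hs))
  have h2 : s ∈ normalizer ((centralizer (zc (TT (S : Subgroup G) N) : Set G) : Subgroup G) : Set G) := by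
    rw [mem_normalizer_iff_cj, cj_centralizer, h1]
  have h3 := Cfsg.Agent.Omega.normalizer_le_normalizer_o2' _ h2
  exact normalizer_le_of_cj (F := jj) jj_cj _ h3

/-- **`N_G(J(O)) ≤ N_G(R)`** -/
theorem J_le (AJ : jj (OT (TT (S : Subgroup G) N)) ≤ centralizer ((⨆ b, l b : Subgroup G) : Set G))
    (CJ : V ⊓ centralizer (jj (OT (TT (S : Subgroup G) N)) : Set G) ≤ ⨆ b, l b)
    (I1s : centralizer (zc (S : Subgroup G) : Set G) ≤ normalizer ((⨆ b, l b : Subgroup G) : Set G)) :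
    normalizer (jj (OT (TT (S : Subgroup G) N)) : Set G) ≤ normalizer ((⨆ b, l b : Subgroup G) : Set G) := by
  refine le_of_forall h.S_norm_J ?_ fun R hR hRN => ?_
  · exact inf_le_right.trans (h.nS_nB.trans h.nB_nR)
  · rcases h.par R (h.isPar_of hR ((o2_isPGroup _).to_le (jj_le _)) h.J_ne hRN) with h1 | h1
    · exact h1.trans I1s
    · intro r hr
      have e : (⨆ b, l b) = V ⊓ centralizer (jj (OT (TT (S : Subgroup G) N)) : Set G) :=
        le_antisymm (le_inf h.RV (comm_symm AJ)) CJ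
      rw [mem_normalizer_iff_cj, e, cj_inf, cj_eq_of_mem_normalizer (h1 hr), cj_centralizer,
        cj_eq_of_mem_normalizer (hRN hr)]

/-- `P ≤ X_j ∩ N_G(l j)` normalises `J(O)` -/
theorem le_nJ (AJ : jj (OT (TT (S : Subgroup G) N)) ≤ centralizer ((⨆ b, l b : Subgroup G) : Set G))
    (pl : ∀ c ∈ centralizer (zc (S : Subgroup G) : Set G), ∀ b, ∃ b', cj c (l b) = l b') {j : ι}
    {P : Subgroup G} (hPX : P ≤ YY (FF (S : Subgroup G) N l) j) (hPl : P ≤ normalizer (l j : Set G)) :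
    P ≤ normalizer (jj (OT (TT (S : Subgroup G) N)) : Set G) := by
  set T := TT (S : Subgroup G) N with hT
  set D := centralizer (zc T : Set G) with hD
  set D' : Subgroup G := centralizer (l j : Set G) ⊓ YY (FF (S : Subgroup G) N l) j with hD'
  -- `D` centralises the `F b`
  have hDF : ∀ b, D ≤ centralizer (FF (S : Subgroup G) N l b : Set G) := fun b => centralizer_le (h.F_le b)
  have hDY : D ≤ YY (FF (S : Subgroup G) N l) j := le_YY fun b _ => hDF b
  have hD'D : D' ≤ D := by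
    have h1 : zc T ≤ centralizer (D' : Set G) := h.zcT.trans (iSup_le fun b => by
      by_cases hb : b = j
      · rw [hb]
        exact comm_symm ((inf_le_left : D' ≤ _).trans (centralizer_le (h.F_le_l j)))
      · exact comm_symm ((inf_le_right : D' ≤ _).trans (YY_le_cent hb)))
    exact comm_symm h1
  -- `D` normalises `l j`
  have hDl : D ≤ normalizer (l j : Set G) := by
    intro d hd
    obtain ⟨b, hb⟩ := pl d (centralizer_le h.Z_le_zcT hd) j
    have h1 : b = j := by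
      by_contra hne
      apply h.ne j
      rw [eq_bot_iff, ← TBits.dis_of h.ind j b (Ne.symm hne)]
      refine le_inf (h.F_le_N j) ?_
      have h2 := cj_mono d (h.F_le_l j)
      rw [cj_eq_of_mem_normalizer (centralizer_le_normalizer _ (hDF j hd)), hb] at h2
      exact h2.trans (h.lN b)
    rw [h1] at hb
    exact mem_normalizer_iff_cj.2 hb
  have hDn : D ≤ normalizer (D' : Set G) := by
    intro d hd
    rw [mem_normalizer_iff_cj, hD', cj_inf, cj_centralizer, cj_eq_of_mem_normalizer (hDl hd),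
      cj_eq_of_mem_normalizer (Subgroup.le_normalizer (hDY hd))]
  have hPn : P ≤ normalizer (D' : Set G) := by
    intro d hd
    rw [mem_normalizer_iff_cj, hD', cj_inf, cj_centralizer, cj_eq_of_mem_normalizer (hPl hd),
      cj_eq_of_mem_normalizer (Subgroup.le_normalizer (hPX hd))]
  -- `O₂(D') ≤ O`, `J(O) ≤ O₂(D')`
  have h1 : o2 D' ≤ OT T :=
    le_o2 ((o2_le _).trans hD'D) (o2_isPGroup _) fun d hd =>
      Cfsg.Agent.Omega.normalizer_le_normalizer_o2' _ (hDn hd)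
  have h2 : jj (OT T) ≤ o2 D' := by
    have h3 : jj (OT T) ≤ D' := le_inf (AJ.trans (centralizer_le (le_iSup l j)))
      (((jj_le _).trans (o2_le _)).trans hDY)
    have h4 : (OT T ⊓ D' : Subgroup G) ≤ o2 D' := by
      refine le_o2 inf_le_right ((o2_isPGroup _).to_le inf_le_left) fun d hd => ?_
      rw [mem_normalizer_iff_cj, cj_inf, cj_eq_of_mem_normalizer (le_normalizer_o2 _ (hD'D hd)),
        cj_eq_of_mem_normalizer (Subgroup.le_normalizer hd)]
    exact (le_inf (jj_le _) h3).trans h4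
  have h5 : jj (o2 D') = jj (OT T) := jj_eq_of_jj_le h2 h1
  rw [← h5]
  intro p hp
  exact normalizer_le_of_cj (F := jj) jj_cj _ (Cfsg.Agent.Omega.normalizer_le_normalizer_o2' _ (hPn hp))

/-- **The end of case (alpha).** -/
theorem end_alpha (AJ : jj (OT (TT (S : Subgroup G) N)) ≤ centralizer ((⨆ b, l b : Subgroup G) : Set G))
    (CJ : V ⊓ centralizer (jj (OT (TT (S : Subgroup G) N)) : Set G) ≤ ⨆ b, l b)
    (pl : ∀ c ∈ centralizer (zc (S : Subgroup G) : Set G), ∀ b, ∃ b', cj c (l b) = l b') {j : ι}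
    {P : Subgroup G} (hP : IsMinPar (TT (S : Subgroup G) N) P) (hPX : P ≤ YY (FF (S : Subgroup G) N l) j)
    (hPl : P ≤ normalizer (l j : Set G)) (hm : ¬ P ≤ centralizer (FF (S : Subgroup G) N l j : Set G)) (b : ι) :
    P ≤ normalizer (N b : Set G) := by
  refine h.norm_of_R hP hPX ((h.le_nJ AJ pl hPX hPl).trans (h.J_le AJ CJ ?_)) hm b
  intro c hc
  refine Cfsg.Agent.ZN.ChoiceBase.mem_normalizer_of_cj_le ?_
  rw [cj, Subgroup.map_iSup]
  refine iSup_le fun b => ?_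
  obtain ⟨b', hb'⟩ := pl c hc b
  exact (le_of_eq hb').trans (le_iSup l b')

end Tf

end Cfsg.Agent.Omega.NOThreeL.RWide.TAct

end

section


/-!
# UNI_T, CASE 1 (helper995 #27055, PART N): `J(O) ≤ O₂(R)`

`R ∈ 𝒫(T)`, `R ≤ Y_j` moves `F j`; `D = C_G(Ω₁Z(T))`, `O = O₂(D)`, `Z_J = ∏ l b`, `D_J = C_G(Z_J)`.

* `mx_iff`, `LJ_eq` : for `D_J ≤ D' ≤ N_G(Z_J)` with `O₂(D') ≤ T` the groups `O₂(D')`, `O₂(D_J)` have the same elementary
  abelian subgroups of maximal order;
* `case_one_abs`, **`Tf.case_one`** : if all of these (for `O`) are in `O₂(R)` then `R` normalises `Z_J` and all blocks.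
-/

set_option autoImplicit false
set_option linter.unusedSectionVars false

namespace Cfsg.Agent.Omega.NOThreeL.RWide.UniT

open Subgroup Cfsg Cfsg.Agent.Omega.MinPar
open Cfsg.Agent.ZN (zc zl o2)
open Cfsg.Agent.ZN.ChoiceBase (cj cj_mono cj_inf cj_centralizer cj_eq_of_mem_normalizer mem_normalizer_iff_cj mem_zc)
open Cfsg.Agent.ZN.ChoiceSit (Syl o2_le_syl syl_not_dvd)
open Cfsg.Agent.MinSimple.MinParabolic (IsMinPar)
open Cfsg.Agent.MinSimple.VModule (zc_le normalizer_le_normalizer_zc le_centralizer_zc le_normalizer_o2 o2_isPGroup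
  le_o2 o2_le zl_le_zc zc_le_zl zc_le_zc_o2 le_normalizer_centralizer_zl)
open Cfsg.Agent.Omega.KL.TwoS (Mx)
open Cfsg.Agent.Omega.EDel.ZJBase (LJ LJ_norm mem_LJ)
open Cfsg.Agent.Omega.NOThreeL.RWide.TAct (TT BB Tf)
open Cfsg.Agent.Omega.EDel.ThmU (XF)

universe u v

variable {G : Type u} [Group G]

theorem norm_cent {Z : Subgroup G} : normalizer (Z : Set G) ≤ normalizer ((centralizer (Z : Set G) : Subgroup G) : Set G) := by
  intro g hg
  rw [mem_normalizer_iff_cj, cj_centralizer, cj_eq_of_mem_normalizer hg]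

variable [Finite G]

/-- `O₂(D_J) ≤ O₂(D')` -/
theorem o2_le_of {ZJ D' : Subgroup G} (DJ : centralizer (ZJ : Set G) ≤ D') (Dn : D' ≤ normalizer (ZJ : Set G)) :
    o2 (centralizer (ZJ : Set G)) ≤ o2 D' :=
  le_o2 ((o2_le _).trans DJ) (o2_isPGroup _)
    ((Dn.trans norm_cent).trans (Cfsg.Agent.Omega.normalizer_le_normalizer_o2' _))

/-- the same elementary abelian subgroups of maximal order -/
theorem mx_iff {T V ZJ D' A : Subgroup G} (DJ : centralizer (ZJ : Set G) ≤ D') (Dn : D' ≤ normalizer (ZJ : Set G))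
    (OT : o2 D' ≤ T) (hV : V ≤ o2 (centralizer (ZJ : Set G))) (Vsq : ∀ v ∈ V, v ^ 2 = 1)
    (off : ∀ A : Subgroup G, A ≤ T → (∀ a ∈ A, a ^ 2 = 1) →
      (centralizer (A : Set G)).relIndex V ≤ (centralizer (V : Set G)).relIndex A → A ≤ centralizer (ZJ : Set G)) :
    Mx (o2 D') A ↔ Mx (o2 (centralizer (ZJ : Set G))) A := by
  have h1 := o2_le_of DJ Dn
  have h2 : ∀ A : Subgroup G, Mx (o2 D') A → Mx (o2 (centralizer (ZJ : Set G))) A := by
    intro A hA
    have h3 : A ≤ centralizer (ZJ : Set G) := off A (hA.le.trans OT) hA.sq (hA.thom (hV.trans h1) Vsq)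
    have h4 : o2 D' ⊓ centralizer (ZJ : Set G) ≤ o2 (centralizer (ZJ : Set G)) := by
      refine le_o2 inf_le_right ((o2_isPGroup _).to_le inf_le_left) fun d hd => ?_
      rw [mem_normalizer_iff_cj, cj_inf, cj_eq_of_mem_normalizer (le_normalizer_o2 _ (DJ hd)),
        cj_eq_of_mem_normalizer (Subgroup.le_normalizer hd)]
    exact ⟨(le_inf hA.le h3).trans h4, hA.sq, fun B hB hB2 => hA.max B (hB.trans h1) hB2⟩
  refine ⟨h2 A, fun hA => ?_⟩
  obtain ⟨A', hA'⟩ := Mx.exists_mx (o2 D')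
  exact hA'.of_card (hA.le.trans h1) hA.sq (hA.max A' (h2 A' hA').le hA'.sq)

/-- `Ω₁Z(J(O₂(D'))) ≤ Ω₁Z(J(O₂(D_J)))` and conversely -/
theorem LJ_eq {T V ZJ D' : Subgroup G} (DJ : centralizer (ZJ : Set G) ≤ D') (Dn : D' ≤ normalizer (ZJ : Set G))
    (OT : o2 D' ≤ T) (hV : V ≤ o2 (centralizer (ZJ : Set G))) (Vsq : ∀ v ∈ V, v ^ 2 = 1)
    (off : ∀ A : Subgroup G, A ≤ T → (∀ a ∈ A, a ^ 2 = 1) →
      (centralizer (A : Set G)).relIndex V ≤ (centralizer (V : Set G)).relIndex A → A ≤ centralizer (ZJ : Set G)) :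
    LJ (o2 D') = LJ (o2 (centralizer (ZJ : Set G))) := by
  have h1 := o2_le_of DJ Dn
  have hm : ∀ A : Subgroup G, Mx (o2 D') A ↔ Mx (o2 (centralizer (ZJ : Set G))) A := fun A =>
    mx_iff DJ Dn OT hV Vsq off
  ext x
  rw [mem_LJ, mem_LJ]
  constructor
  · rintro ⟨hx, hx2, hxc⟩
    refine ⟨?_, hx2, fun A hA => hxc A ((hm A).2 hA)⟩
    obtain ⟨A, hA⟩ := Mx.exists_mx (o2 D')
    exact ((hm A).1 hA).le (Cfsg.Agent.Omega.EDel.ZJBase.LJ_le_mem hA (mem_LJ.2 ⟨hx, hx2, hxc⟩))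
  · rintro ⟨hx, hx2, hxc⟩
    exact ⟨h1 hx, hx2, fun A hA => hxc A ((hm A).1 hA)⟩

/-- **CASE 1, abstract.** -/
theorem case_one_abs {T R V ZJ F : Subgroup G} (hTR : Syl T R) (hP : IsMinPar T R)
    (hc : R ⊓ centralizer (o2 R : Set G) ≤ o2 R) (sylD : Syl T (centralizer (zc T : Set G)))
    (ZJT : ZJ ≤ T) (ZJc : ZJ ≤ centralizer (ZJ : Set G)) (zcB : zc (T ⊓ centralizer (ZJ : Set G)) ≤ ZJ)
    (zTJ : zc T ≤ ZJ) (DN : centralizer (zc T : Set G) ≤ normalizer (ZJ : Set G)) (FZ : F ≤ zc T)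
    (hRF : ¬ R ≤ centralizer (F : Set G)) (hV : V ≤ o2 (centralizer (ZJ : Set G))) (Vsq : ∀ v ∈ V, v ^ 2 = 1)
    (off : ∀ A : Subgroup G, A ≤ T → (∀ a ∈ A, a ^ 2 = 1) →
      (centralizer (A : Set G)).relIndex V ≤ (centralizer (V : Set G)).relIndex A → A ≤ centralizer (ZJ : Set G))
    (lam : LJ (o2 (centralizer (ZJ : Set G))) = ZJ) (UO : zl T R ≤ o2 (centralizer (zc T : Set G)))
    (hJ : ∀ A : Subgroup G, Mx (o2 (centralizer (zc T : Set G))) A → A ≤ o2 R) :
    R ≤ normalizer (ZJ : Set G) := by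
  have hT2 := hTR.2.1
  have hs := syl_not_dvd hTR
  have hO : o2 R ≤ T := o2_le_syl hTR
  have hUc : zl T R ≤ zc (o2 R) := zl_le_zc hTR.1 hT2 hs hc
  have hTz : T ≤ centralizer (zc T : Set G) := le_centralizer_zc T
  have DJD : centralizer (ZJ : Set G) ≤ centralizer (zc T : Set G) := centralizer_le (by exact_mod_cast zTJ)
  have OTT : o2 (centralizer (zc T : Set G)) ≤ T := o2_le_syl sylD
  -- `U ≤ Z_J`
  have hU : zl T R ≤ ZJ := by
    rw [← lam, ← LJ_eq DJD DN OTT hV Vsq off]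
    intro x hx
    have h1 := mem_zc.1 (hUc hx)
    refine mem_LJ.2 ⟨UO hx, h1.2.1, fun A hA => ?_⟩
    rw [mem_centralizer_iff]
    exact fun a ha => h1.2.2 a (hJ A hA ha)
  -- `B ≤ O₂(R)`
  have hB : T ⊓ centralizer (ZJ : Set G) ≤ o2 R := by
    rcases hP.sup_eq_or_inf_le hT2 hs inf_le_left (le_normalizer_centralizer_zl T R) with h1 | h1
    · exfalso
      apply hRF
      rw [← h1]
      have h2 : F ≤ zl T R := FZ.trans (zc_le_zl T R)
      exact sup_le (inf_le_right.trans (centralizer_le (by exact_mod_cast h2)))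
        (hTz.trans (centralizer_le (by exact_mod_cast FZ)))
    · refine le_trans (le_inf inf_le_left (le_inf (inf_le_left.trans hTR.1) (inf_le_right.trans ?_))) h1
      exact centralizer_le (by exact_mod_cast hU)
  -- `Ω₁Z(O₂(R)) ≤ Z_J`
  have hZJB : ZJ ≤ T ⊓ centralizer (ZJ : Set G) := le_inf ZJT ZJc
  have hz : zc (o2 R) ≤ ZJ := by
    intro x hx
    obtain ⟨h1, h2, h3⟩ := mem_zc.1 hx
    exact zcB (mem_zc.2 ⟨mem_inf.2 ⟨hO h1, mem_centralizer_iff.2 fun y hy => h3 y (hB (hZJB hy))⟩, h2,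
      fun y hy => h3 y (hB hy)⟩)
  have hz' : zc T ≤ zc (o2 R) := zc_le_zc_o2 hTR.1 hT2 hs hc
  set D' : Subgroup G := centralizer (zc (o2 R) : Set G) with hD'
  have DJ' : centralizer (ZJ : Set G) ≤ D' := centralizer_le (by exact_mod_cast hz)
  have D'D : D' ≤ centralizer (zc T : Set G) := centralizer_le (by exact_mod_cast hz')
  have hRz : R ≤ normalizer (zc (o2 R) : Set G) := (le_normalizer_o2 R).trans (normalizer_le_normalizer_zc _)
  have hRD : R ≤ normalizer (o2 D' : Set G) :=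
    (hRz.trans norm_cent).trans (Cfsg.Agent.Omega.normalizer_le_normalizer_o2' _)
  have OT' : o2 D' ≤ T := by
    have h1 : IsPGroup 2 (T ⊔ o2 D' : Subgroup G) :=
      IsPGroup.to_sup_of_normal_right' hT2 (o2_isPGroup D') (hTR.1.trans hRD)
    have h2 := sylD.2.2 (T ⊔ o2 D') (sup_le hTz ((o2_le D').trans D'D)) h1 le_sup_left
    rw [← h2]
    exact le_sup_right
  have h3 : LJ (o2 D') = ZJ := by rw [← lam]; exact LJ_eq DJ' (D'D.trans DN) OT' hV Vsq off
  rw [← h3]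
  exact hRD.trans (LJ_norm _)

/-- a 2-subgroup of odd index is a Sylow group -/
theorem syl_of_odd {T X : Subgroup G} (hT : IsPGroup 2 T) (hTX : T ≤ X) (h : ¬ 2 ∣ T.relIndex X) : Syl T X := by
  have : Fact (Nat.Prime 2) := ⟨Nat.prime_two⟩
  refine ⟨hTX, hT, fun Q hQX hQ hTQ => ?_⟩
  have h1 := relIndex_mul_relIndex T Q X hTQ hQX
  have h2 : T.relIndex Q ∣ Nat.card Q := relIndex_dvd_card T Q
  obtain ⟨n, hn⟩ := IsPGroup.iff_card.1 hQ
  rw [hn] at h2
  obtain ⟨m, -, hm⟩ := (Nat.dvd_prime_pow Nat.prime_two).1 h2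
  have h3 : m = 0 := by
    by_contra hm0
    apply h
    rw [← h1, hm]
    exact dvd_mul_of_dvd_left (dvd_pow_self 2 hm0) _
  rw [h3, pow_zero] at hm
  exact le_antisymm (relIndex_eq_one.1 hm) hTQ

section tf

variable {ι : Type v} [Finite ι] [Nonempty ι] {S : Sylow 2 G} {V : Subgroup G} {N l : ι → Subgroup G}

/-- `X_ij` has characteristic 2 -/
theorem char2_XF (t : Tf S V N l) (hG : IsCharacteristicTwoType G) (three : ∀ i j : ι, ∃ k, k ≠ i ∧ k ≠ j) (i j : ι) :
    XF (TAct.FF (S : Subgroup G) N l) i j ⊓ centralizer (o2 (XF (TAct.FF (S : Subgroup G) N l) i j) : Set G) ≤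
      o2 (XF (TAct.FF (S : Subgroup G) N l) i j) := by
  have e : XF (TAct.FF (S : Subgroup G) N l) i j =
      centralizer ((closure {x | ∃ n, n ≠ i ∧ n ≠ j ∧ x ∈ TAct.FF (S : Subgroup G) N l n} : Subgroup G) : Set G) :=
    (centralizer_closure _).symm
  have hle : closure {x | ∃ n, n ≠ i ∧ n ≠ j ∧ x ∈ TAct.FF (S : Subgroup G) N l n} ≤ TT (S : Subgroup G) N := by
    rw [closure_le]
    rintro _ ⟨n, -, -, hx⟩
    exact ZN.zc_le _ (t.F_le n hx)
  rw [e]
  refine Cfsg.Agent.Omega.NOne.LemmaT.char2_centralizer hG (t.T2.to_le hle) ?_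
  obtain ⟨l, hl1, hl2⟩ := three i j
  intro e1
  apply t.ne l
  rw [eq_bot_iff, ← e1]
  exact fun x hx => subset_closure ⟨l, hl1, hl2, hx⟩

omit [Finite ι] [Nonempty ι] in
theorem D_le_XF (t : Tf S V N l) (i j : ι) : centralizer (zc (TT (S : Subgroup G) N) : Set G) ≤
    XF (TAct.FF (S : Subgroup G) N l) i j := by
  intro x hx
  rw [XF, mem_centralizer_iff]
  rintro y ⟨n, -, -, hy⟩
  exact mem_centralizer_iff.1 hx y (t.F_le n hy)

/-- `Ω₁Z(T) ≤ Ω₁Z(O₂(X_ij))`, `O₂(X_ij) ≤ O₂(D)` -/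
theorem zcT_XF (t : Tf S V N l) (hG : IsCharacteristicTwoType G) (three : ∀ i j : ι, ∃ k, k ≠ i ∧ k ≠ j)
    (oT : ∀ i j : ι, o2 (XF (TAct.FF (S : Subgroup G) N l) i j) ≤ TT (S : Subgroup G) N) (i j : ι) :
    zc (TT (S : Subgroup G) N) ≤ zc (o2 (XF (TAct.FF (S : Subgroup G) N l) i j)) ∧
      o2 (XF (TAct.FF (S : Subgroup G) N l) i j) ≤ o2 (centralizer (zc (TT (S : Subgroup G) N) : Set G)) := by
  have hTz : TT (S : Subgroup G) N ≤ centralizer (zc (TT (S : Subgroup G) N) : Set G) := le_centralizer_zc _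
  refine ⟨fun x hx => ?_, ?_⟩
  · have hx' := mem_zc.1 hx
    have hc : x ∈ centralizer (o2 (XF (TAct.FF (S : Subgroup G) N l) i j) : Set G) :=
      mem_centralizer_iff.2 fun y hy => hx'.2.2 y (oT i j hy)
    have h3 := char2_XF t hG three i j ⟨D_le_XF t i j (hTz hx'.1), hc⟩
    exact mem_zc.2 ⟨h3, hx'.2.1, fun y hy => mem_centralizer_iff.1 hc y hy⟩
  · exact le_o2 ((oT i j).trans hTz) (o2_isPGroup _) ((D_le_XF t i j).trans (le_normalizer_o2 _))

/-- **CASE 1**: if all elementary abelian subgroups of maximal order of `O₂(D)` are in `O₂(R)` then `R` normalises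
all blocks. -/
theorem case_one (t : Tf S V N l) (hG : IsCharacteristicTwoType G) (three : ∀ i j : ι, ∃ k, k ≠ i ∧ k ≠ j)
    (oT : ∀ i j : ι, o2 (XF (TAct.FF (S : Subgroup G) N l) i j) ≤ TT (S : Subgroup G) N)
    (ln : ∀ c ∈ centralizer (zc (S : Subgroup G) : Set G), ∀ b, ∃ b', cj c (l b) = l b')
    (low : V ≤ o2 (centralizer (zc (S : Subgroup G) : Set G)))
    (off : ∀ A : Subgroup G, A ≤ TT (S : Subgroup G) N → (∀ a ∈ A, a ^ 2 = 1) →
      (centralizer (A : Set G)).relIndex V ≤ (centralizer (V : Set G)).relIndex A →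
      A ≤ centralizer ((⨆ b, l b : Subgroup G) : Set G))
    (lam : LJ (o2 (centralizer ((⨆ b, l b : Subgroup G) : Set G))) = ⨆ b, l b) {j : ι} {R : Subgroup G}
    (hP : IsMinPar (TT (S : Subgroup G) N) R) (hRY : R ≤ YY (TAct.FF (S : Subgroup G) N l) j)
    (hRF : ¬ R ≤ centralizer (TAct.FF (S : Subgroup G) N l j : Set G))
    (hJ : ∀ A : Subgroup G, Mx (o2 (centralizer (zc (TT (S : Subgroup G) N) : Set G))) A → A ≤ o2 R) :
    (R ≤ normalizer ((⨆ b, l b : Subgroup G) : Set G)) ∧ ∀ b, R ≤ normalizer (N b : Set G) := by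
  set T := TT (S : Subgroup G) N with hT
  set ZJ : Subgroup G := ⨆ b, l b with hZJ
  have hDZ : centralizer (zc T : Set G) ≤ centralizer (zc (S : Subgroup G) : Set G) :=
    centralizer_le (by exact_mod_cast t.Z_le_zcT)
  have hDY : ∀ j, centralizer (zc T : Set G) ≤ YY (TAct.FF (S : Subgroup G) N l) j := fun j =>
    le_YY fun b _ => centralizer_le (by exact_mod_cast t.F_le b)
  have hTz : T ≤ centralizer (zc T : Set G) := le_centralizer_zc T
  have hTR : Syl T R := syl_of_odd t.T2 hP.le (t.syl_sub hP.le hRY)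
  have sylD : Syl T (centralizer (zc T : Set G)) := syl_of_odd t.T2 hTz (t.syl_sub hTz (hDY j))
  have DN : centralizer (zc T : Set G) ≤ normalizer (ZJ : Set G) := by
    intro c hc
    refine Cfsg.Agent.ZN.ChoiceBase.mem_normalizer_of_cj_le ?_
    rw [hZJ, cj, Subgroup.map_iSup]
    refine iSup_le fun b => ?_
    obtain ⟨b', hb'⟩ := ln c (hDZ hc) b
    exact (le_of_eq hb').trans (le_iSup l b')
  have hBe : T ⊓ centralizer (ZJ : Set G) = BB (S : Subgroup G) l :=
    le_antisymm (le_inf (inf_le_left.trans inf_le_left) inf_le_right) (le_inf t.BT inf_le_right)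
  have hV : V ≤ o2 (centralizer (ZJ : Set G)) := by
    have h1 : centralizer (ZJ : Set G) ≤ centralizer (zc (S : Subgroup G) : Set G) := t.DC
    have h2 : o2 (centralizer (zc (S : Subgroup G) : Set G)) ⊓ centralizer (ZJ : Set G) ≤
        o2 (centralizer (ZJ : Set G)) := by
      refine le_o2 inf_le_right ((o2_isPGroup _).to_le inf_le_left) fun d hd => ?_
      rw [mem_normalizer_iff_cj, cj_inf, cj_eq_of_mem_normalizer (le_normalizer_o2 _ (h1 hd)),
        cj_eq_of_mem_normalizer (Subgroup.le_normalizer hd)]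
    exact (le_inf low (t.com.trans (centralizer_le (by exact_mod_cast t.RV)))).trans h2
  obtain ⟨i, hi, -⟩ := three j j
  obtain ⟨z1, z2⟩ := zcT_XF t hG three oT j i
  have hRX : R ≤ XF (TAct.FF (S : Subgroup G) N l) j i :=
    hRY.trans (centralizer_le fun _ ⟨n, h1, _, h3⟩ => ⟨n, h1, h3⟩)
  -- `R` has characteristic 2
  have hc : R ⊓ centralizer (o2 R : Set G) ≤ o2 R := by
    have h1 : o2 (XF (TAct.FF (S : Subgroup G) N l) j i) ≤ o2 R :=
      le_o2 ((oT j i).trans hP.le) (o2_isPGroup _) (hRX.trans (le_normalizer_o2 _))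
    rintro x ⟨hx, hxc⟩
    exact h1 (char2_XF t hG three j i ⟨hRX hx, centralizer_le (by exact_mod_cast h1) hxc⟩)
  have UO : zl T R ≤ o2 (centralizer (zc T : Set G)) :=
    (Cfsg.Agent.MinSimple.VModule.zl_le z1
      (hRX.trans ((le_normalizer_o2 _).trans (normalizer_le_normalizer_zc _)))).trans ((zc_le _).trans z2)
  have key : R ≤ normalizer (ZJ : Set G) :=
    case_one_abs hTR hP hc sylD (t.RB.trans t.BT) (t.RV.trans (t.com.trans (centralizer_le (by exact_mod_cast t.RV))))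
      (by rw [hBe]; exact t.I4) t.zcT_le_R DN (t.F_le j) hRF hV t.sq off lam UO hJ
  exact ⟨key, fun b => t.norm_of_R hP hRY key hRF b⟩

end tf

end Cfsg.Agent.Omega.NOThreeL.RWide.UniT

end
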